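import Mathlib

/-!
# Schemes whose local rings are fields (helper3)
-/

set_option autoImplicit false
universe u

open CategoryTheory CategoryTheory.Limits AlgebraicGeometry IsLocalRing

namespace Groth.Agent.H3.Residual

/-- a local ring with a flat local homomorphism to a field is a field -/
lemma isField_of_flat_local_to_field {A B : Type u} [CommRing A] [CommRing B] [IsLocalRing A]
    (hB : IsField B) (φ : A →+* B) [IsLocalHom φ] (hφ : φ.Flat) : IsField A := by
  let _ : Field B := hB.toField
  algebraize [φ]
  have hloc : IsLocalHom (algebraMap A B) := ‹IsLocalHom φ›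
  have : Module.FaithfullyFlat A B := Module.FaithfullyFlat.of_flat_of_isLocalHom
  rw [IsLocalRing.isField_iff_maximalIdeal_eq]
  have h1 := Ideal.comap_map_eq_self_of_faithfullyFlat (B := B) (maximalIdeal A)
  have h2 := Ideal.comap_map_eq_self_of_faithfullyFlat (B := B) (⊥ : Ideal A)
  have h3 : (maximalIdeal A).map (algebraMap A B) = ⊥ := by
    rcases Ideal.eq_bot_or_top ((maximalIdeal A).map (algebraMap A B)) with h | h
    · exact h
    · exfalso
      rw [h, Ideal.comap_top] at h1
      exact (maximalIdeal.isMaximal A).ne_top h1.symm
  rw [← h1, h3, ← h2, Ideal.map_bot]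

/-- a ring homomorphism out of a field is flat -/
lemma ringHom_flat_of_isField {A B : Type u} [CommRing A] [CommRing B] (hA : IsField A)
    (φ : A →+* B) : φ.Flat := by
  let _ : Field A := hA.toField
  algebraize [φ]
  change Module.Flat A B
  infer_instance

/-- a reduced local ring of dimension zero is a field -/
lemma isField_of_isReduced_of_ringKrullDim_eq_zero {A : Type u} [CommRing A] [IsLocalRing A]
    [IsReduced A] (h : ringKrullDim A = 0) : IsField A := by
  have : Ring.KrullDimLE 0 A := by
    rw [Ring.krullDimLE_iff, h]
    rfl
  exact Ring.KrullDimLE.isField_of_isReduced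

/-- a field has Krull dimension zero -/
lemma ringKrullDim_eq_zero_of_isField' {A : Type u} [CommRing A] (h : IsField A) :
    ringKrullDim A = 0 := by
  let _ : Field A := h.toField
  exact ringKrullDim_eq_zero_of_field A

/-- **A morphism to a scheme whose local rings at the image points are fields is flat.** -/
theorem flat_of_forall_isField_stalk {X Y : Scheme.{u}} (f : X ⟶ Y)
    (h : ∀ x : X, IsField ↥(Y.presheaf.stalk (f x))) : Flat f := by
  rw [Flat.iff_flat_stalkMap]
  intro x
  exact ringHom_flat_of_isField (h x) _

/-- the local rings of a scheme receiving a flat surjective morphism from a scheme whose local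
rings are fields are fields -/
theorem isField_stalk_of_flat_surjective {X Y : Scheme.{u}} (f : X ⟶ Y) [Flat f]
    (hX : ∀ x : X, IsField ↥(X.presheaf.stalk x)) (x : X) :
    IsField ↥(Y.presheaf.stalk (f x)) :=
  isField_of_flat_local_to_field (hX x) (f.stalkMap x).hom (Flat.stalkMap f x)

/-- a scheme whose local rings are fields is reduced -/
theorem isReduced_of_forall_isField_stalk {X : Scheme.{u}}
    (h : ∀ x : X, IsField ↥(X.presheaf.stalk x)) : IsReduced X := by
  have : ∀ x : X, _root_.IsReduced ↥(X.presheaf.stalk x) := fun x => by
    let _ : Field ↥(X.presheaf.stalk x) := (h x).toField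
    infer_instance
  exact isReduced_of_isReduced_stalk X

/-- a field is a regular local ring -/
theorem isRegularLocalRing_of_isField {A : Type u} [CommRing A] (h : IsField A) :
    IsRegularLocalRing A := by
  let _ : Field A := h.toField
  have h1 : IsLocalRing A := inferInstance
  have h2 : IsNoetherianRing A := inferInstance
  apply IsRegularLocalRing.of_spanFinrank_maximalIdeal_le
  have h3 : maximalIdeal A = ⊥ := IsLocalRing.isField_iff_maximalIdeal_eq.1 h
  rw [h3]
  simp

end Groth.Agent.H3.Residual
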