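import Groth.Agent.Lib.Helper3.Residual.MonoIso
import Groth.Agent.Lib.Helper5.AlgSp.RedInduced
import Groth.Agent.Lib.Helper5.AlgSp.Mono

/-!
# Residual spaces at closed points of locally Noetherian spaces (helper3)
-/

set_option autoImplicit false
set_option linter.unusedSectionVars false
universe u

open CategoryTheory CategoryTheory.Limits AlgebraicGeometry
open AlgSp

namespace Groth.Agent.H3.Residual

open Groth.Agent.H5.AlgSp

variable {S : Scheme.{u}}

/-- the source of a representable morphism locally of finite type to a locally Noetherian space is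
locally Noetherian -/
theorem isLocNoethSp_of_repWith_lft {X Z : Sp S} (hX : IsLocNoethSp X) (i : Z ⟶ X)
    (hi : RepWith @LocallyOfFiniteType i) : IsLocNoethSp Z := by
  obtain ⟨V, b, hbe, hbs, hVN⟩ := hX
  have hVN' : IsLocallyNoetherian V.left := hVN
  have hrep := hi.rep
  let W : Over S := hrep.pullback b
  let w₁ : W ⟶ V := hrep.snd b
  have sq : IsPullback (hrep.fst b) ((yon S).map w₁) i b := hrep.isPullback b
  have hw₁ : LocallyOfFiniteType w₁.left := hi.property_snd b
  refine ⟨W, hrep.fst b, (RepWith @Etale).of_isPullback sq.flip hbe,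
    (RepWith @Surjective).of_isPullback sq.flip hbs, ?_⟩
  exact LocallyOfFiniteType.isLocallyNoetherian w₁.left

lemma isClosedImmersion_le_lft :
    (@IsClosedImmersion : MorphismProperty Scheme.{u}) ≤ @LocallyOfFiniteType := fun _ _ f hf => by
  have : IsClosedImmersion f := hf
  exact (inferInstance : LocallyOfFiniteType f)

/-- **The residual space at a point of a locally Noetherian algebraic space is a closed immersion
iff the point is closed.** -/
theorem isClosed_iff_repWith_isClosedImmersion {X Z : Sp S} (hX : IsAlgSpace X) (hZ : IsAlgSpace Z)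
    (hN : IsLocNoethSp X) (x : Points X) (i : Z ⟶ X) [Mono i]
    (hi : Set.range (Points.map i) = {x})
    {k : Type u} [Field k] (str : Spec (CommRingCat.of k) ⟶ S)
    (p : (yon S).obj (Over.mk str) ⟶ Z) (hpp : LocP @LocallyOfFinitePresentation p)
    (hpf : LocP @Flat p) (hps : IsSurjectiveMor p) :
    IsClosed ({x} : Set (Points X)) ↔ RepWith @IsClosedImmersion i := by
  constructor
  · intro hcl
    obtain ⟨Z', i', hZ', hi'c, hi'r, hZ'r⟩ := exists_isRedInduced hX {x} hcl
    have hm' : Mono i' := mono_of_repWith (fun _ _ f hf => by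
      have : IsClosedImmersion f := hf
      exact MorphismProperty.monomorphisms.infer_property f) hi'c
    have hinj := points_map_injective_of_mono i'
    have hne : Nonempty (Points Z') := by
      obtain ⟨z, -⟩ : x ∈ Set.range (Points.map i') := by rw [hi'r]; rfl
      exact ⟨z⟩
    have hsub : Subsingleton (Points Z') := by
      refine ⟨fun a b => hinj ?_⟩
      have ha : Points.map i' a ∈ Set.range (Points.map i') := ⟨a, rfl⟩
      have hb : Points.map i' b ∈ Set.range (Points.map i') := ⟨b, rfl⟩
      rw [hi'r] at ha hb
      rw [Set.mem_singleton_iff.1 ha, Set.mem_singleton_iff.1 hb]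
    have hN' : IsLocNoethSp Z' :=
      isLocNoethSp_of_repWith_lft hN i' (repWith_mono isClosedImmersion_le_lft hi'c)
    obtain ⟨k', _, str', p', hpp', hpf', hps'⟩ := exists_lfp_flat_surjective_field_pt hZ' hZ'r hN'
    obtain ⟨e, he⟩ := exists_iso_of_mono_same_image hX hZ hZ' i i' x hi hi'r str p hpp hpf hps
      str' p' hpp' hpf' hps'
    -- he : e.hom ≫ i = i', e : Z' ≅ Z
    have : i = e.inv ≫ i' := by rw [← he, Iso.inv_hom_id_assoc]
    rw [this]
    exact (MorphismProperty.cancel_left_of_respectsIso (RepWith (S := S) @IsClosedImmersion)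
      e.inv i').2 hi'c
  · intro hc
    have := isClosed_range_points_map_of_isClosedImmersion hX i hc
    rwa [hi] at this

end Groth.Agent.H3.Residual
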