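import Groth.Agent.Lib.Helper3.Residual.MonoIso
import Groth.Agent.Lib.Helper3.Decent.FiniteFibres
import Groth.Agent.Lib.Helper5.AlgSp.EtaleQuot
import Groth.Agent.Lib.Helper5.AlgSp.LocPBasic

/-!
# Existence of the residual space (helper3)
-/

set_option autoImplicit false
set_option linter.unusedSectionVars false
universe u

open CategoryTheory CategoryTheory.Limits AlgebraicGeometry
open AlgSp

namespace Groth.Agent.H3.Residual

open Groth.Agent.H5.AlgSp Groth.Agent.H3.FinQuot Groth.Agent.H3.Decent

variable {S : Scheme.{u}}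

/-- The projections of the kernel pair of the residue field point of an etale chart are étale. -/
theorem etale_kernelPair_resPt {X : Sp S} {U : Over S}
    {φ : (yon S).obj U ⟶ X} (hφ : RepWith @Etale φ) (u : ↥U.left)
    {Ru : Over S} (su tu : Ru ⟶ resPt U u)
    (squ : IsPullback ((yon S).map tu) ((yon S).map su) ((yon S).map (resι U u) ≫ φ)
      ((yon S).map (resι U u) ≫ φ)) :
    Etale su.left := by
  set iu := resι U u with hiu
  set φu := (yon S).map iu ≫ φ with hφu
  have hiu_mono : Mono iu.left := by
    change Mono (U.left.fromSpecResidueField u)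
    infer_instance
  have hiu_mono' : Mono iu := mono_of_mono_left iu
  have hrep := hφ.rep
  let F : Over S := hrep.pullback φu
  let pr2 : F ⟶ U := hrep.fst' φu
  let pr1 : F ⟶ resPt U u := hrep.snd φu
  have sqF : IsPullback ((yon S).map pr2) ((yon S).map pr1) φ φu := hrep.isPullback' φu
  have hpr1 : Etale pr1.left := hφ.property_snd φu
  obtain ⟨j, hj⟩ := (yon S).map_surjective (sqF.lift ((yon S).map (tu ≫ iu)) ((yon S).map su)
    (by rw [Functor.map_comp, Category.assoc]; exact squ.w))
  have hj2 : j ≫ pr2 = tu ≫ iu := by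
    apply (yon S).map_injective
    rw [Functor.map_comp, hj, sqF.lift_fst]
  have hj1 : j ≫ pr1 = su := by
    apply (yon S).map_injective
    rw [Functor.map_comp, hj, sqF.lift_snd]
  have big : IsPullback ((yon S).map j ≫ (yon S).map pr1) ((yon S).map tu) φu
      ((yon S).map iu ≫ φ) := by
    rw [← Functor.map_comp, hj1]
    exact squ.flip
  have left : IsPullback ((yon S).map j) ((yon S).map tu) ((yon S).map pr2) ((yon S).map iu) :=
    IsPullback.of_right big (by rw [← Functor.map_comp, ← Functor.map_comp, hj2]) sqF.flip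
  have leftO : IsPullback j tu pr2 iu := IsPullback.of_map (yon S) hj2 left
  have leftS : IsPullback j.left tu.left pr2.left iu.left := leftO.map (Over.forget S)
  have hjmono : Mono j.left := leftS.mono_fst_of_mono
  have hjo : IsOpenImmersion j.left :=
    @isOpenImmersion_of_mono_of_etale_field _ _ _ _ pr1.left hpr1 j.left hjmono
  have hsu : su.left = j.left ≫ pr1.left := by rw [← hj1]; rfl
  rw [hsu]
  infer_instance

/-- **Existence of the residual space** of an algebraic space at a point. -/
theorem exists_residual_space {X : Sp S} (hX : IsAlgSpace X) (x : Points X) :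
    ∃ (Z : Sp S) (i : Z ⟶ X), IsAlgSpace Z ∧ Mono i ∧ Set.range (Points.map i) = {x} ∧
      ∃ (k : Type u) (_ : Field k) (str : Spec (CommRingCat.of k) ⟶ S)
        (p : (yon S).obj (Over.mk str) ⟶ Z),
        LocP @LocallyOfFinitePresentation p ∧ LocP @Flat p ∧ IsSurjectiveMor p := by
  obtain ⟨U, a, hae, has⟩ := hX.atlas
  obtain ⟨u, rfl⟩ := ofPt_surjective_of_repWith has x
  set φ := (yon S).map (resι U u) ≫ a with hφ
  have hrep : Representable φ := hX.representable_from_yon φ
  let R : Over S := hrep.pullback φ
  let t : R ⟶ resPt U u := hrep.fst' φ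
  let s : R ⟶ resPt U u := hrep.snd φ
  have sq : IsPullback ((yon S).map t) ((yon S).map s) φ φ := hrep.isPullback' φ
  have hs : Etale s.left := etale_kernelPair_resPt hae u s t sq
  have ht : Etale t.left := etale_kernelPair_resPt hae u t s sq.flip
  have hE : IsEtaleEqvRel s t := ⟨isEqvRel_of_isPullback φ s t sq, hs, ht⟩
  have hZ : IsAlgSpace (quotSp ((yon S).map s) ((yon S).map t)) := isAlgSpace_quotSp s t hE
  have hP := isPresentation_quotSpπ s t hE
  set π := quotSpπ ((yon S).map s) ((yon S).map t) with hπ
  obtain ⟨i, hi, hπi⟩ := exists_mono_factor_of_same_kernelPair π φ hP.isPullback sq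
  have hπs : Function.Surjective (Points.ofPt π) := ofPt_surjective_of_repWith hP.surjective
  have hpt : ∀ w : ↥(resPt U u).left, Points.map i (Points.ofPt π w) = Points.ofPt a u := by
    intro w
    rw [Points.map_ofPt, hπi, hφ, ofPt_yon_map_comp]
    congr 1
    exact Scheme.fromSpecResidueField_apply _ _
  refine ⟨_, i, hZ, hi, ?_, ↑(U.left.residueField u), inferInstance,
    U.left.fromSpecResidueField u ≫ U.hom, π, ?_, ?_, ?_⟩
  · ext y
    constructor
    · rintro ⟨z, rfl⟩
      obtain ⟨w, rfl⟩ := hπs z
      exact hpt w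
    · rintro rfl
      exact ⟨Points.ofPt π (IsLocalRing.closedPoint ↑(U.left.residueField u)), hpt _⟩
  · exact locP_of_repWith etale_le_lfp (repWith_mono etale_le_lfp hP.etale)
  · exact locP_of_repWith etale_le_flat (repWith_mono etale_le_flat hP.etale)
  · intro z
    obtain ⟨w, rfl⟩ := hπs z
    exact ⟨Points.ofScheme _ w, (Points.ofPt_eq_map_ofScheme π w).symm⟩

end Groth.Agent.H3.Residual
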