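import Groth.Agent.Lib.Helper3.Residual.OnePoint
import Groth.Agent.Lib.Helper3.Decent.QSepGeneric
import Groth.Agent.Lib.Helper5.AlgSp.Proper

/-!
# Reduced one-point spaces and field points (helper3)
-/

set_option autoImplicit false
set_option linter.unusedSectionVars false
universe u

open CategoryTheory CategoryTheory.Limits AlgebraicGeometry
open AlgSp

namespace Groth.Agent.H3.Residual

open Groth.Agent.H5.AlgSp Groth.Agent.H5.EtSrc Groth.Agent.H3.FinQuot Groth.Agent.H3.AlgSpProp
  Groth.Agent.H3.Decent

variable {S : Scheme.{u}}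

/-- a morphism of schemes with `P` followed by an étale chart has `LocP P` -/
theorem locP_of_scheme_chart {P : MorphismProperty Scheme.{u}} [P.IsStableUnderBaseChange]
    [P.IsStableUnderComposition] [IsEtaleLocalSource P]
    (hP : (@Etale : MorphismProperty Scheme.{u}) ≤ P) {Z : Sp S} {T V : Over S}
    (b : (yon S).obj V ⟶ Z) (hb : RepWith @Etale b) (i : T ⟶ V) (hi : P i.left) :
    LocP P ((yon S).map i ≫ b) :=
  locP_of_one_chart hP (𝟙 _) b i (repWith_id _ T) (repWith_id _ T) hb (by simp) hi

section OnePoint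

variable {Z : Sp S} (hZ : IsAlgSpace Z) (hr : IsReducedSp Z) [Nonempty (Points Z)]
  [Subsingleton (Points Z)]

include hZ hr

/-- **The local rings of schemes étale over a reduced one-point space are fields.** -/
theorem isField_stalk_of_onePoint {V : Over S} (b : (yon S).obj V ⟶ Z) (hb : RepWith @Etale b)
    (v : ↥V.left) : IsField ↥(V.left.presheaf.stalk v) := by
  have hVr : IsReduced V.left := Groth.Agent.H3.AlgSpCov.isReduced_of_etale_of_isReducedSp hr b hb
  obtain ⟨V₀, b₀, hb₀e, hb₀s⟩ := hZ.atlas
  obtain ⟨v₀, -⟩ := ofPt_surjective_of_repWith hb₀s (Classical.arbitrary (Points Z))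
  obtain ⟨η, -, hη⟩ := exists_generization_dim_zero V₀.left v₀
  have hat : HasAt (fun U u => ringKrullDim ↥(U.presheaf.stalk u) = 0) Z (Points.ofPt b v) :=
    ⟨V₀, b₀, η, hb₀e, Subsingleton.elim _ _, hη⟩
  have hdim := (hasAt_iff_forall (etaleLocalAt_ringKrullDim_stalk 0) hZ _).1 hat V b v hb rfl
  exact isField_of_isReduced_of_ringKrullDim_eq_zero hdim

/-- every morphism to a reduced one-point space is flat -/
theorem locP_flat_of_onePoint {F : Sp S} (q : F ⟶ Z) : LocP @Flat q := by
  intro U V a b h ha hb comm
  exact flat_of_forall_isField_stalk h.left fun u => isField_stalk_of_onePoint hZ hr b hb _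

omit hZ hr in
/-- every morphism from a nonempty space to a one-point space is surjective -/
theorem isSurjectiveMor_of_onePoint {F : Sp S} (q : F ⟶ Z) [Nonempty (Points F)] :
    IsSurjectiveMor q := fun _ => ⟨Classical.arbitrary _, Subsingleton.elim _ _⟩

/-- a reduced one-point space has a flat surjective field point which is moreover locally of
finite type -/
theorem exists_lft_flat_surjective_field_pt :
    ∃ (k : Type u) (_ : Field k) (str : Spec (CommRingCat.of k) ⟶ S)
      (p : (yon S).obj (Over.mk str) ⟶ Z),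
      LocP @LocallyOfFiniteType p ∧ LocP @Flat p ∧ IsSurjectiveMor p := by
  obtain ⟨A, str, p', u, S₀, hp', -, -, -⟩ :=
    exists_affine_etale_chart_small hZ (Classical.arbitrary (Points Z))
  have hnt : Nontrivial A := by
    have : Nonempty (PrimeSpectrum A) := ⟨primePt u⟩
    exact (PrimeSpectrum.nonempty_iff_nontrivial).1 this
  obtain ⟨m, hm⟩ := Ideal.exists_maximal A
  let _ : Field (A ⧸ m) := Ideal.Quotient.field m
  let φ : A ⟶ CommRingCat.of (A ⧸ m) := CommRingCat.ofHom (Ideal.Quotient.mk m)
  let i : Over.mk (Spec.map φ ≫ str) ⟶ Over.mk str := Over.homMk (Spec.map φ) rfl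
  have hi : LocallyOfFiniteType i.left := by
    change LocallyOfFiniteType (Spec.map φ)
    rw [HasRingHomProperty.Spec_iff (P := @LocallyOfFiniteType)]
    exact RingHom.FiniteType.of_surjective _ Ideal.Quotient.mk_surjective
  refine ⟨A ⧸ m, inferInstance, Spec.map φ ≫ str, (yon S).map i ≫ p',
    locP_of_scheme_chart etale_le_lft p' hp' i hi, locP_flat_of_onePoint hZ hr _, ?_⟩
  have : Nonempty (Points ((yon S).obj (Over.mk (Spec.map φ ≫ str)))) :=
    nonempty_points_yon_spec_field _
  exact isSurjectiveMor_of_onePoint _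

/-- a reduced locally Noetherian one-point space has a locally finitely presented flat surjective
field point -/
theorem exists_lfp_flat_surjective_field_pt (hN : IsLocNoethSp Z) :
    ∃ (k : Type u) (_ : Field k) (str : Spec (CommRingCat.of k) ⟶ S)
      (p : (yon S).obj (Over.mk str) ⟶ Z),
      LocP @LocallyOfFinitePresentation p ∧ LocP @Flat p ∧ IsSurjectiveMor p := by
  obtain ⟨A, str, p', u, S₀, hp', -, -, -⟩ :=
    exists_affine_etale_chart_small hZ (Classical.arbitrary (Points Z))
  have hnt : Nontrivial A := by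
    have : Nonempty (PrimeSpectrum A) := ⟨primePt u⟩
    exact (PrimeSpectrum.nonempty_iff_nontrivial).1 this
  have hAN : IsNoetherianRing A := by
    have : IsLocallyNoetherian (Over.mk str).left :=
      Groth.Agent.H3.AlgSpCov.isLocallyNoetherian_of_etale_of_isLocNoethSp hN p' hp'
    exact isLocallyNoetherian_Spec.1 this
  obtain ⟨m, hm⟩ := Ideal.exists_maximal A
  let _ : Field (A ⧸ m) := Ideal.Quotient.field m
  let φ : A ⟶ CommRingCat.of (A ⧸ m) := CommRingCat.ofHom (Ideal.Quotient.mk m)
  let i : Over.mk (Spec.map φ ≫ str) ⟶ Over.mk str := Over.homMk (Spec.map φ) rfl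
  have hi : LocallyOfFinitePresentation i.left := by
    change LocallyOfFinitePresentation (Spec.map φ)
    rw [HasRingHomProperty.Spec_iff (P := @LocallyOfFinitePresentation)]
    refine RingHom.FinitePresentation.of_surjective _ Ideal.Quotient.mk_surjective ?_
    exact IsNoetherian.noetherian _
  refine ⟨A ⧸ m, inferInstance, Spec.map φ ≫ str, (yon S).map i ≫ p',
    locP_of_scheme_chart etale_le_lfp p' hp' i hi, locP_flat_of_onePoint hZ hr _, ?_⟩
  have : Nonempty (Points ((yon S).obj (Over.mk (Spec.map φ ≫ str)))) :=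
    nonempty_points_yon_spec_field _
  exact isSurjectiveMor_of_onePoint _

/-- a reduced locally Noetherian one-point space is regular -/
theorem regular_of_onePoint (hN : IsLocNoethSp Z) :
    EtaleLocally (fun U => IsLocallyNoetherian U ∧
      ∀ u : ↥U, IsRegularLocalRing ↥(U.presheaf.stalk u)) Z := by
  obtain ⟨V, b, hbe, hbs, hVN⟩ := hN
  exact ⟨V, b, hbe, hbs, hVN, fun v =>
    isRegularLocalRing_of_isField (isField_stalk_of_onePoint hZ hr b hbe v)⟩

end OnePoint

/-- the spectrum of a field, as a space, is locally Noetherian -/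
theorem isLocNoethSp_yon_spec_field {k : Type u} [Field k] (str : Spec (CommRingCat.of k) ⟶ S) :
    IsLocNoethSp ((yon S).obj (Over.mk str)) :=
  ⟨Over.mk str, 𝟙 _, repWith_id _ _, repWith_id _ _,
    (inferInstance : IsLocallyNoetherian (Spec (CommRingCat.of k)))⟩

end Groth.Agent.H3.Residual
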