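import Groth.Agent.Lib.Helper3.Residual.MonoIso
import Groth.Agent.Lib.Helper3.AlgSpCov.SmoothST

/-!
# The residual space is the spectrum of a field iff the point is monomorphic (helper3)
-/

set_option autoImplicit false
set_option linter.unusedSectionVars false
universe u

open CategoryTheory CategoryTheory.Limits AlgebraicGeometry
open AlgSp

namespace Groth.Agent.H3.Residual

open Groth.Agent.H5.AlgSp Groth.Agent.H3.AlgSpCov

variable {S : Scheme.{u}}

/-- the image of the space of points of the spectrum of a field -/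
lemma range_points_map_field {X : Sp S} {k : Type u} [Field k]
    (str : Spec (CommRingCat.of k) ⟶ S) (q : (yon S).obj (Over.mk str) ⟶ X) :
    Set.range (Points.map q) = {Points.mk (fpOfHom str q)} := by
  ext y
  constructor
  · rintro ⟨z, rfl⟩
    obtain ⟨a, rfl⟩ := ofScheme_surjective _ z
    rw [Set.mem_singleton_iff, ← Points.ofPt_eq_map_ofScheme, ← ofPt_closedPoint]
    congr 1
    exact Subsingleton.elim (α := PrimeSpectrum k) _ _
  · rintro rfl
    refine ⟨Points.ofScheme _ (IsLocalRing.closedPoint k), ?_⟩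
    rw [← Points.ofPt_eq_map_ofScheme, ofPt_closedPoint]

/-- **The residual space at `x` is the spectrum of a field iff `x` is represented by a
monomorphism from the spectrum of a field.** -/
theorem iso_field_iff_exists_mono_point {X Z : Sp S} (hX : IsAlgSpace X) (hZ : IsAlgSpace Z)
    (x : Points X) (i : Z ⟶ X) [Mono i] (hi : Set.range (Points.map i) = {x})
    {k : Type u} [Field k] (str : Spec (CommRingCat.of k) ⟶ S)
    (p : (yon S).obj (Over.mk str) ⟶ Z) (hpp : LocP @LocallyOfFinitePresentation p)
    (hpf : LocP @Flat p) (hps : IsSurjectiveMor p) :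
    (∃ (k' : Type u) (_ : Field k') (str' : Spec (CommRingCat.of k') ⟶ S),
        Nonempty (Z ≅ (yon S).obj (Over.mk str'))) ↔
      ∃ (k' : Type u) (_ : Field k') (str' : Spec (CommRingCat.of k') ⟶ S)
        (q : (yon S).obj (Over.mk str') ⟶ X), Mono q ∧ Points.mk (fpOfHom str' q) = x := by
  constructor
  · rintro ⟨k', _, str', ⟨e⟩⟩
    refine ⟨k', inferInstance, str', e.inv ≫ i, mono_comp _ _, ?_⟩
    have h1 : Points.mk (fpOfHom str' (e.inv ≫ i)) ∈ Set.range (Points.map i) :=
      ⟨Points.mk (fpOfHom str' e.inv), map_mk_fpOfHom _ _ _⟩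
    rw [hi] at h1
    exact h1
  · rintro ⟨k', _, str', q, hq, hx⟩
    have hi' : Set.range (Points.map q) = {x} := by rw [range_points_map_field, hx]
    obtain ⟨e, -⟩ := exists_iso_of_mono_same_image hX hZ (IsAlgSpace.yon_obj _) i q x hi hi'
      str p hpp hpf hps str' (𝟙 _) (locP_id etale_le_lfp _) (locP_id etale_le_flat _)
      (fun z => ⟨z, by rw [Points.map_id]⟩)
    exact ⟨k', inferInstance, str', ⟨e.symm⟩⟩

end Groth.Agent.H3.Residual
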