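import Groth.Agent.Lib.Helper3.Residual.FieldPt
import Groth.Agent.Lib.Helper5.AlgSp.SchDenseFactor
import Groth.Agent.Lib.Helper5.AlgSp.MonoDesc

/-!
# Monomorphisms into residual spaces (helper3)
-/

set_option autoImplicit false
set_option linter.unusedSectionVars false
universe u

open CategoryTheory CategoryTheory.Limits AlgebraicGeometry
open AlgSp

namespace Groth.Agent.H3.Residual

open Groth.Agent.H5.AlgSp

variable {S : Scheme.{u}}

/-- **A monomorphism into a space with a locally finitely presented flat surjective field point is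
empty or an isomorphism.** -/
theorem isEmpty_or_isIso_of_mono {Z' Z : Sp S} (hZ' : IsAlgSpace Z') (hZ : IsAlgSpace Z)
    (f : Z' ⟶ Z) [Mono f] {k : Type u} [Field k] (str : Spec (CommRingCat.of k) ⟶ S)
    (p : (yon S).obj (Over.mk str) ⟶ Z) (hpp : LocP @LocallyOfFinitePresentation p)
    (hpf : LocP @Flat p) (hps : IsSurjectiveMor p) :
    IsEmpty (Points Z') ∨ IsIso f := by
  by_cases hne : Nonempty (Points Z')
  · right
    obtain ⟨z'⟩ := hne
    have sq := IsPullback.of_hasPullback f p
    have hT : IsAlgSpace (pullback f p) :=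
      isAlgSpace_pullback hZ.diag hZ' (IsAlgSpace.yon_obj _) sq
    have hm : Mono (pullback.snd f p) := inferInstance
    obtain ⟨y, hy⟩ := hps (Points.map f z')
    obtain ⟨t, -, -⟩ := points_pullback_surjective sq z' y hy.symm
    have hiso : IsIso (pullback.snd f p) := isIso_of_mono_to_field hT str _ ⟨t⟩
    have hfac : (inv (pullback.snd f p) ≫ pullback.fst f p) ≫ f = p := by
      rw [Category.assoc, pullback.condition, IsIso.inv_hom_id_assoc]
    have hp : Sheaf.IsLocallySurjective p :=
      isLocallySurjective_of_surjective_flat_lfp (IsAlgSpace.yon_obj _) hZ p hps hpf hpp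
    have hpe : Epi p := inferInstance
    have hfe : Epi f := epi_of_epi_fac hfac
    exact isIso_of_mono_of_epi f
  · left
    exact not_nonempty_iff.1 hne

end Groth.Agent.H3.Residual

namespace Groth.Agent.H3.Residual

open Groth.Agent.H5.AlgSp

variable {S : Scheme.{u}}

/-- **Uniqueness of the residual space**: two monomorphisms with the same one-point image from
spaces with locally finitely presented flat surjective field points are isomorphic. -/
theorem exists_iso_of_mono_same_image {X Z Z' : Sp S} (hX : IsAlgSpace X) (hZ : IsAlgSpace Z)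
    (hZ' : IsAlgSpace Z') (i : Z ⟶ X) (i' : Z' ⟶ X) [Mono i] [Mono i'] (x : Points X)
    (hi : Set.range (Points.map i) = {x}) (hi' : Set.range (Points.map i') = {x})
    {k : Type u} [Field k] (str : Spec (CommRingCat.of k) ⟶ S)
    (p : (yon S).obj (Over.mk str) ⟶ Z) (hpp : LocP @LocallyOfFinitePresentation p)
    (hpf : LocP @Flat p) (hps : IsSurjectiveMor p)
    {k' : Type u} [Field k'] (str' : Spec (CommRingCat.of k') ⟶ S)
    (p' : (yon S).obj (Over.mk str') ⟶ Z') (hpp' : LocP @LocallyOfFinitePresentation p')
    (hpf' : LocP @Flat p') (hps' : IsSurjectiveMor p') :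
    ∃ e : Z' ≅ Z, e.hom ≫ i = i' := by
  have sq := IsPullback.of_hasPullback i i'
  have hP : IsAlgSpace (pullback i i') := isAlgSpace_pullback hX.diag hZ hZ' sq
  have h1 : Mono (pullback.fst i i') := inferInstance
  have h2 : Mono (pullback.snd i i') := inferInstance
  obtain ⟨z, hz⟩ : x ∈ Set.range (Points.map i) := by rw [hi]; rfl
  obtain ⟨z', hz'⟩ : x ∈ Set.range (Points.map i') := by rw [hi']; rfl
  obtain ⟨t, -, -⟩ := points_pullback_surjective sq z z' (hz.trans hz'.symm)
  have hne : ¬ IsEmpty (Points (pullback i i')) := fun h => h.false t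
  have hfst : IsIso (pullback.fst i i') :=
    (isEmpty_or_isIso_of_mono hP hZ (pullback.fst i i') str p hpp hpf hps).resolve_left hne
  have hsnd : IsIso (pullback.snd i i') :=
    (isEmpty_or_isIso_of_mono hP hZ' (pullback.snd i i') str' p' hpp' hpf' hps').resolve_left hne
  refine ⟨(asIso (pullback.snd i i')).symm ≪≫ asIso (pullback.fst i i'), ?_⟩
  simp only [Iso.trans_hom, Iso.symm_hom, asIso_inv, asIso_hom, Category.assoc]
  rw [pullback.condition, IsIso.inv_hom_id_assoc]

end Groth.Agent.H3.Residual
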