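import Groth.Agent.Lib.Helper3.Residual.FieldStalk
import Groth.Agent.Lib.Helper3.FinQuot.EtaleField
import Groth.Agent.Lib.Helper3.AlgSpMor.SpDim
import Groth.Agent.Lib.Helper3.AlgSpCov.RedNoeth
import Groth.Agent.Lib.Helper5.AlgSp.LocPCalc
import Groth.Agent.Lib.Helper5.AlgSp.QCompact

/-!
# Algebraic spaces with a flat surjective point from the spectrum of a field (helper3)
-/

set_option autoImplicit false
set_option linter.unusedSectionVars false
universe u

open CategoryTheory CategoryTheory.Limits AlgebraicGeometry
open AlgSp

namespace Groth.Agent.H3.Residual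

open Groth.Agent.H5.AlgSp Groth.Agent.H3.FinQuot Groth.Agent.H3.AlgSpProp

variable {S : Scheme.{u}}

/-- the local rings of the spectrum of a field are fields -/
lemma ringKrullDim_stalk_spec_field {k : Type u} [Field k] (x : ↥(Spec (CommRingCat.of k))) :
    ringKrullDim ↥((Spec (CommRingCat.of k)).presheaf.stalk x) = 0 := by
  rw [ringKrullDim_stalk_eq_coheight]
  norm_cast
  rw [Order.coheight_eq_zero]
  intro y _
  rw [Subsingleton.elim y x]

/-- the local rings of a scheme étale over a field are fields -/
theorem isField_stalk_of_etale_field {k : Type u} [Field k] {W : Scheme.{u}}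
    (g : W ⟶ Spec (CommRingCat.of k)) [Etale g] (w : ↥W) : IsField ↥(W.presheaf.stalk w) := by
  have h1 : IsReduced W := isReduced_of_etale_field g
  have h2 : ringKrullDim ↥(W.presheaf.stalk w) = 0 :=
    (etaleLocalAt_ringKrullDim_stalk 0 g w).2 (ringKrullDim_stalk_spec_field _)
  exact isField_of_isReduced_of_ringKrullDim_eq_zero h2

section FlatPt

variable {Z : Sp S} {k : Type u} [Field k] {str : Spec (CommRingCat.of k) ⟶ S}
  (p : (yon S).obj (Over.mk str) ⟶ Z) (hpf : LocP @Flat p) (hps : IsSurjectiveMor p)

include hpf hps

/-- **If `Spec k ⟶ Z` is flat and surjective, the local rings of every scheme étale over `Z` are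
fields.** -/
theorem isField_stalk_of_flat_surjective_field_pt {V : Over S} (b : (yon S).obj V ⟶ Z)
    (hb : RepWith @Etale b) (v : ↥V.left) : IsField ↥(V.left.presheaf.stalk v) := by
  let W : Over S := hb.rep.pullback p
  let g : W ⟶ V := hb.rep.fst' p
  let e : W ⟶ Over.mk str := hb.rep.snd p
  have sq : IsPullback ((yon S).map g) ((yon S).map e) b p := hb.rep.isPullback' p
  have he : Etale e.left := hb.property p _ e sq
  have hg : Flat g.left :=
    hpf ((yon S).map e) b g ((repWith_yon_map_iff @Etale e).2 he) hb sq.w.symm
  obtain ⟨y, hy⟩ := hps (Points.ofPt b v)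
  obtain ⟨w, hw, -⟩ := exists_point_of_isPullback sq.flip y v hy
  have hW : ∀ w : ↥W.left, IsField ↥(W.left.presheaf.stalk w) := fun w =>
    isField_stalk_of_etale_field e.left w
  have := isField_stalk_of_flat_surjective g.left hW w
  rwa [hw] at this

/-- every morphism to a space with a flat surjective field point is flat -/
theorem locP_flat_of_flat_surjective_field_pt {F : Sp S} (q : F ⟶ Z) : LocP @Flat q := by
  intro U V a b h ha hb comm
  exact flat_of_forall_isField_stalk h.left fun u =>
    isField_stalk_of_flat_surjective_field_pt p hpf hps b hb _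

omit hpf in
/-- a space with a surjective field point has at most one point -/
theorem subsingleton_points_of_surjective_field_pt : Subsingleton (Points Z) := by
  refine ⟨fun x y => ?_⟩
  obtain ⟨x', rfl⟩ := hps x
  obtain ⟨y', rfl⟩ := hps y
  obtain ⟨a, rfl⟩ := ofScheme_surjective _ x'
  obtain ⟨b, rfl⟩ := ofScheme_surjective _ y'
  have : a = b := Subsingleton.elim (α := ↥(Spec (CommRingCat.of k))) a b
  rw [this]

omit hpf in
/-- a space with a surjective field point has a point -/
theorem nonempty_points_of_surjective_field_pt : Nonempty (Points Z) :=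
  ⟨Points.map p (Points.ofScheme (Over.mk str) (IsLocalRing.closedPoint k))⟩

omit hpf in
/-- every morphism from a nonempty space to a space with a surjective field point is surjective -/
theorem isSurjectiveMor_of_surjective_field_pt {F : Sp S} (q : F ⟶ Z) [Nonempty (Points F)] :
    IsSurjectiveMor q := by
  intro z
  have := subsingleton_points_of_surjective_field_pt p hps
  exact ⟨Classical.arbitrary _, Subsingleton.elim _ _⟩

/-- a space with a flat surjective field point is reduced -/
theorem isReducedSp_of_flat_surjective_field_pt (hZ : IsAlgSpace Z) : IsReducedSp Z := by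
  obtain ⟨V, b, hbe, hbs⟩ := hZ.atlas
  exact ⟨V, b, hbe, hbs, isReduced_of_forall_isField_stalk fun v =>
    isField_stalk_of_flat_surjective_field_pt p hpf hps b hbe v⟩

end FlatPt

/-- the points of the spectrum of a field, as a space, are nonempty -/
instance nonempty_points_yon_spec_field {k : Type u} [Field k]
    (str : Spec (CommRingCat.of k) ⟶ S) : Nonempty (Points ((yon S).obj (Over.mk str))) :=
  ⟨Points.ofScheme (Over.mk str) (IsLocalRing.closedPoint k)⟩

end Groth.Agent.H3.Residual
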